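import Mathlib
import Cfsg.Agent.Lib.Involves.Dihedral
import Cfsg.Agent.Lib.ZJ.Family
import Cfsg.Agent.Lib.PSolvable.Core

/-!
# Inverted `q`-elements
-/

set_option autoImplicit false

namespace Cfsg.Agent.Lib.RealQ

open Subgroup Cfsg

variable {G H : Type*} [Group G] [Group H] {q : ℕ}

/-- Some nontrivial `q`-element of `K` is inverted in `K`. -/
def Rev (q : ℕ) (K : Subgroup G) : Prop :=
  ∃ x ∈ K, x ≠ 1 ∧ (∃ k : ℕ, x ^ q ^ k = 1) ∧ ∃ g ∈ K, g * x * g⁻¹ = x⁻¹

theorem Rev.mono {K L : Subgroup G} (h : Rev q K) (hKL : K ≤ L) : Rev q L := by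
  obtain ⟨x, hx, h1, hk, g, hg, he⟩ := h
  exact ⟨x, hKL hx, h1, hk, g, hKL hg, he⟩

theorem Rev.map_injective {K : Subgroup G} (h : Rev q K) (f : G →* H) (hf : Function.Injective f) :
    Rev q (K.map f) := by
  obtain ⟨x, hx, h1, ⟨k, hk⟩, g, hg, he⟩ := h
  exact ⟨f x, mem_map_of_mem f hx, (map_ne_one_iff f hf).mpr h1,
    ⟨k, by rw [← map_pow, hk, map_one]⟩, f g, mem_map_of_mem f hg,
    by rw [← map_inv, ← map_inv, ← map_mul, ← map_mul, he]⟩

theorem Rev.restrict {K : Subgroup G} (h : Rev q K) : Rev q (⊤ : Subgroup K) := by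
  obtain ⟨x, hx, h1, ⟨k, hk⟩, g, hg, he⟩ := h
  exact ⟨⟨x, hx⟩, mem_top _, fun e => h1 (congrArg Subtype.val e), ⟨k, Subtype.ext hk⟩,
    ⟨g, hg⟩, mem_top _, Subtype.ext he⟩

/-- A 2-element acting nontrivially on a `q`-group inverts one of its nontrivial elements. -/
theorem rev_of_moved {K P : Subgroup G} (hP : IsPGroup q P) (hPK : P ≤ K) :
    ∀ (k : ℕ) {s : G}, s ∈ K → s ^ 2 ^ k = 1 → s ∈ normalizer (P : Set G) →
      s ∉ centralizer (P : Set G) → Rev q K := by
  intro k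
  induction k with
  | zero =>
    intro s _ hs _ hc
    rw [pow_zero, pow_one] at hs
    exact absurd (hs ▸ one_mem _) hc
  | succ k ih =>
    intro s hsK hs hN hc
    by_cases h2 : s ^ 2 ∈ centralizer (P : Set G)
    · obtain ⟨v, hv, hne⟩ : ∃ v ∈ P, s * v * s⁻¹ ≠ v := by
        by_contra hcon
        push Not at hcon
        exact hc (mem_centralizer_iff.2 fun v hv => (mul_inv_eq_iff_eq_mul.1 (hcon v hv)).symm)
      set w := v⁻¹ * (s * v * s⁻¹) with hw
      have hwP : w ∈ P := mul_mem (inv_mem hv) ((mem_normalizer_iff.1 hN v).1 hv)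
      have hss : s * (s * v * s⁻¹) * s⁻¹ = v := by
        have h := mem_centralizer_iff.1 h2 v hv
        calc s * (s * v * s⁻¹) * s⁻¹ = s ^ 2 * v * (s ^ 2)⁻¹ := by
              rw [pow_two]; group
          _ = v := by rw [← h, mul_inv_cancel_right]
      obtain ⟨j, hj⟩ := hP ⟨w, hwP⟩
      refine ⟨w, hPK hwP, fun h1 => hne ?_, ⟨j, congrArg Subtype.val hj⟩, s, hsK, ?_⟩
      · rw [hw, inv_mul_eq_one] at h1
        exact h1.symm
      · calc s * w * s⁻¹ = (s * v * s⁻¹)⁻¹ * (s * (s * v * s⁻¹) * s⁻¹) := by rw [hw]; group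
          _ = (s * v * s⁻¹)⁻¹ * v := by rw [hss]
          _ = w⁻¹ := by rw [hw]; group
    · exact ih (pow_mem hsK 2) (by rw [← pow_mul, ← pow_succ']; exact hs) (pow_mem hN 2) h2

theorem orderOf_two_part {G : Type*} [Group G] [Finite G] (n : G) :
    ∃ m e : ℕ, Odd m ∧ (n ^ m) ^ 2 ^ e = 1 := by
  obtain ⟨i, r, hr, hmo⟩ := Nat.exists_eq_pow_mul_and_not_dvd (orderOf_pos n).ne' 2 (by norm_num)
  exact ⟨r, i, Nat.odd_iff.2 (by omega), by rw [← pow_mul, mul_comm, ← hmo, pow_orderOf_eq_one]⟩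

/-- An inverting element can be taken to be a 2-element. -/
theorem exists_two_element [Finite G] {g x : G} (he : g * x * g⁻¹ = x⁻¹) :
    ∃ s ∈ zpowers g, (∃ e : ℕ, s ^ 2 ^ e = 1) ∧ s * x * s⁻¹ = x⁻¹ := by
  obtain ⟨m, e, hm, hme⟩ := orderOf_two_part g
  obtain ⟨r, rfl⟩ := hm
  exact ⟨_, pow_mem (mem_zpowers g) _, ⟨e, hme⟩, (Involves.conj_pow_parity he r).2⟩

theorem ne_inv_of_qElement [Fact q.Prime] (hq : q ≠ 2) {x : G} (h1 : x ≠ 1) {k : ℕ}
    (hk : x ^ q ^ k = 1) : x ≠ x⁻¹ := by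
  intro h
  have h2 : x ^ 2 = 1 := by rw [pow_two]; exact mul_eq_one_iff_eq_inv.2 h
  have hodd : Nat.Coprime 2 (q ^ k) :=
    ((Nat.coprime_primes Nat.prime_two Fact.out).2 (Ne.symm hq)).pow_right k
  exact h1 (orderOf_eq_one_iff.1 (Nat.eq_one_of_dvd_coprimes hodd
    (orderOf_dvd_of_pow_eq_one h2) (orderOf_dvd_of_pow_eq_one hk)))

/-- An inverted element of an image comes from an inverted element. -/
theorem rev_of_map [Finite G] [Fact q.Prime] (hq : q ≠ 2) (f : G →* H) {K : Subgroup G}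
    (h : Rev q (K.map f)) : Rev q K := by
  obtain ⟨x, hx, h1, ⟨k, hk⟩, g, hg, he⟩ := h
  obtain ⟨j, -, hj⟩ := (Nat.dvd_prime_pow (Fact.out : q.Prime)).1 (orderOf_dvd_of_pow_eq_one hk)
  obtain ⟨j, rfl⟩ : ∃ j', j = j' + 1 := Nat.exists_eq_add_one.2 (Nat.pos_of_ne_zero fun h0 => by
    rw [h0, pow_zero, orderOf_eq_one_iff] at hj; exact h1 hj)
  set z := x ^ q ^ j with hz
  have hzo : orderOf z = q := by
    refine orderOf_eq_prime ?_ fun h0 => ?_
    · rw [hz, ← pow_mul, ← pow_succ, ← hj, pow_orderOf_eq_one]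
    · have h' := Nat.le_of_dvd (pow_pos (Fact.out : q.Prime).pos j) (orderOf_dvd_of_pow_eq_one h0)
      rw [hj] at h'
      exact absurd h' (not_le.2 (Nat.pow_lt_pow_right (Fact.out : q.Prime).one_lt (Nat.lt_succ_self j)))
  have hgz : g * z * g⁻¹ = z⁻¹ := by rw [hz, ← conj_pow, he, inv_pow]
  obtain ⟨a, ha, hfa⟩ := mem_map.1 (pow_mem hx (q ^ j) : z ∈ K.map f)
  obtain ⟨b, hb, hfb⟩ := mem_map.1 hg
  obtain ⟨s, y, -, ⟨i, hi⟩, hy1, -, hsy⟩ := Involves.exists_inverting (f.comp K.subtype) hq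
    (a := ⟨a, ha⟩) (b := ⟨b, hb⟩) (by simpa [hfa] using hzo) (by simpa [hfa, hfb] using hgz)
  refine ⟨y, y.2, fun h => hy1 ?_, ⟨i, ?_⟩, s, s.2, by simpa using congrArg Subtype.val hsy⟩
  · rw [show y = 1 from Subtype.ext h, map_one]
  · rw [← Subgroup.coe_pow, ← hi, pow_orderOf_eq_one, Subgroup.coe_one]

/-- Moving to a conjugate. -/
theorem Rev.conj {K : Subgroup G} (h : Rev q K) (g : G) : Rev q (K.map (MulAut.conj g).toMonoidHom) :=
  h.map_injective _ (MulAut.conj g).injective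

/-- `Rev` of the normalizer of `Z(J(T))` does not depend on the choice of the Sylow subgroup. -/
theorem rev_zj_conj [Finite G] [Fact q.Prime] (S T : Sylow q G)
    (h : Rev q (normalizer (ZJ.zj 0 (S : Subgroup G) : Set G))) :
    Rev q (normalizer (ZJ.zj 0 (T : Subgroup G) : Set G)) := by
  obtain ⟨g, hg⟩ := MulAction.exists_smul_eq G S T
  have hT : (T : Subgroup G) = (S : Subgroup G).map (MulAut.conj g).toMonoidHom := by
    rw [← hg]; rfl
  rw [hT, ZJ.zj_map _ (MulAut.conj g).injective.injOn,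
    ← map_equiv_normalizer_eq (ZJ.zj 0 (S : Subgroup G)) (MulAut.conj g)]
  exact h.conj g

/-- The statement proved by induction. -/
def Descends (q : ℕ) (G : Type*) [Group G] : Prop :=
  ∀ T : Sylow q G, Rev q (⊤ : Subgroup G) →
    Rev q (normalizer (ZJ.zj 0 (T : Subgroup G) : Set G))

/-- The inductive hypothesis applied to a subgroup. -/
theorem rev_of_descends [Finite G] [Fact q.Prime] {K : Subgroup G} (hK : Descends q K)
    (hR : Rev q K) (T : Sylow q K) :
    Rev q (normalizer (ZJ.zj 0 ((T : Subgroup K).map K.subtype) : Set G)) := by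
  have h := (hK T hR.restrict).map_injective K.subtype K.subtype_injective
  refine h.mono ?_
  rw [ZJ.zj_map _ K.subtype_injective.injOn]
  exact le_normalizer_map K.subtype

/-- The inductive hypothesis applied to a proper subgroup containing a Sylow subgroup. -/
theorem rev_of_overgroup [Finite G] [Fact q.Prime] {K : Subgroup G} (hK : Descends q K)
    (hR : Rev q K) (T : Sylow q G) (hT : (T : Subgroup G) ≤ K) :
    Rev q (normalizer (ZJ.zj 0 (T : Subgroup G) : Set G)) := by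
  have h := rev_of_descends hK hR (T.subtype hT)
  rwa [Sylow.coe_subtype, map_subgroupOf_eq_of_le hT] at h

end Cfsg.Agent.Lib.RealQ
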