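import Cfsg.Agent.Lib.RealQ.Unstable
import Cfsg.Agent.Lib.Involution.Basic
import Cfsg.Agent.Lib.PSolvable.CoprimeQuot

/-!
# Inverted `q`-elements appear in the normalizer of `Z(J(T))`
-/

set_option autoImplicit false

namespace Cfsg.Agent.Lib.RealQ

open Subgroup Cfsg

variable {G : Type*} [Group G] [Finite G] {q : ℕ} [Fact q.Prime]

theorem zj_ne_bot_sylow (T : Sylow q G) (h : (T : Subgroup G) ≠ ⊥) :
    ZJ.zj 0 (T : Subgroup G) ≠ ⊥ :=
  ZJ.zj_ne_bot T.2 h (Or.inl rfl)

theorem sylow_ne_bot_of_rev (h : Rev q (⊤ : Subgroup G)) (T : Sylow q G) :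
    (T : Subgroup G) ≠ ⊥ := by
  obtain ⟨x, -, h1, ⟨k, hk⟩, -⟩ := h
  intro hT
  obtain ⟨S, hS⟩ := (Involves.isPGroup_zpowers (p := q) hk).exists_le_sylow
  obtain ⟨g, hg⟩ := MulAction.exists_smul_eq G T S
  have hS0 : (S : Subgroup G) = ⊥ := by
    rw [← hg]
    show ((T : Subgroup G).map (MulAut.conj g).toMonoidHom) = ⊥
    rw [hT, Subgroup.map_bot]
  exact h1 (mem_bot.1 (hS0 ▸ hS (mem_zpowers x)))

/-- Trivial `q`-core: climb to a Sylow subgroup. -/
theorem rev_of_pCore_eq_bot (hIH : ∀ K : Subgroup G, K ≠ ⊤ → Descends q K)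
    (hQ : pCore q G = ⊥) (T : Sylow q G) (hR : Rev q (⊤ : Subgroup G)) :
    Rev q (normalizer (ZJ.zj 0 (T : Subgroup G) : Set G)) := by
  let qpart : Subgroup G → ℕ := fun K => q ^ (Nat.card K).factorization q
  let 𝒳 : Set (Subgroup G) := {X | IsPGroup q X ∧ X ≠ ⊥ ∧ Rev q (normalizer (X : Set G))}
  have hne : 𝒳.Nonempty := by
    obtain ⟨x, -, h1, ⟨k, hk⟩, g, -, he⟩ := hR
    refine ⟨zpowers x, Involves.isPGroup_zpowers hk, by simpa [zpowers_eq_bot] using h1, x,
      le_normalizer (mem_zpowers x), h1, ⟨k, hk⟩, g, ?_, he⟩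
    refine mem_normalizer_iff_map_conj_eq.2 ?_
    rw [MonoidHom.map_zpowers]
    show zpowers (g * x * g⁻¹) = _
    rw [he, zpowers_inv]
  obtain ⟨X, hX, hmax⟩ := Set.exists_max_image 𝒳
    (fun X => qpart (normalizer (X : Set G))) (Set.toFinite _) hne
  obtain ⟨hXp, hX1, hXR⟩ := hX
  have hproper : normalizer (X : Set G) ≠ ⊤ := fun h => hX1 <| by
    haveI := normalizer_eq_top_iff.1 h
    exact le_bot_iff.1 (hQ ▸ PSolvable.le_pCore hXp)
  set K := normalizer (X : Set G) with hK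
  obtain ⟨T₀⟩ : Nonempty (Sylow q K) := inferInstance
  set T' := (T₀ : Subgroup K).map K.subtype with hT'
  have hZR := rev_of_descends (hIH K hproper) hXR T₀
  have hT'p : IsPGroup q T' := T₀.2.map _
  haveI : (X.subgroupOf K).Normal := normal_in_normalizer
  haveI : (X.comap K.subtype).Normal := normal_in_normalizer
  have hT'1 : T' ≠ ⊥ := fun h => hX1 (le_bot_iff.1 (h ▸ fun x hx =>
    ⟨⟨x, le_normalizer hx⟩, (hXp.comap_subtype : IsPGroup q (X.subgroupOf K)).le_sylow_of_normal T₀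
      (show (⟨x, le_normalizer hx⟩ : K) ∈ X.subgroupOf K from hx), rfl⟩ : X ≤ ⊥))
  have hcard : Nat.card T' = qpart K := by
    rw [hT', card_map_of_injective K.subtype_injective, T₀.card_eq_multiplicity]
  have hmem : ZJ.zj 0 T' ∈ 𝒳 :=
    ⟨hT'p.to_le (ZJ.zj_le 0 T'), ZJ.zj_ne_bot hT'p hT'1 (Or.inl rfl), hZR⟩
  have hle := hmax _ hmem
  obtain ⟨S, hS⟩ := isSylow_of_normalizer_le hT'p
    (le_normalizer.trans (ZJ.normalizer_le 0 T'))
    (fun R hR hTR hRN => (eq_of_le_of_card_ge hTR (by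
      rw [hcard]
      obtain ⟨n, hn⟩ := IsPGroup.iff_card.1 hR
      refine le_trans ?_ hle
      show Nat.card R ≤ q ^ _
      rw [hn]
      refine Nat.pow_le_pow_right (Fact.out : q.Prime).pos
        (((Fact.out : q.Prime).pow_dvd_iff_le_factorization Nat.card_pos.ne').1 ?_)
      exact hn ▸ card_dvd_of_le hRN)).symm)
    (ZJ.normalizer_le 0 T')
  rw [show (T₀ : Subgroup K).map K.subtype = (S : Subgroup G) from hS.symm] at hZR
  exact rev_zj_conj S T hZR

/-- A centralizer with central Sylow subgroup inside a normal `q`-subgroup. -/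
theorem centralizer_pCore_le (hN : pPrimeCore q G = ⊥) (T : Sylow q G)
    (h : (T : Subgroup G) ⊓ centralizer (pCore q G : Set G) ≤ pCore q G) :
    centralizer (pCore q G : Set G) ≤ pCore q G := by
  set C := centralizer (pCore q G : Set G) with hC
  set Z : Subgroup C := ((T : Subgroup G) ⊓ C).subgroupOf C with hZ
  have hcen : Z ≤ center C := fun z hz => mem_center_iff.2 fun c =>
    Subtype.ext (mem_centralizer_iff.1 c.2 (z : G) (h (mem_subgroupOf.1 hz))).symm
  haveI : Z.Normal := ⟨fun z hz c => by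
    rwa [mem_center_iff.1 (hcen hz) c, mul_inv_cancel_right]⟩
  have hidx : ¬ q ∣ Z.index := by
    intro hd
    have : q ∣ (T : Subgroup G).relIndex C := by
      rw [hZ, inf_subgroupOf_right] at hd
      exact hd
    exact FusionMod.not_dvd_relIndex_inf_normal T C (by rwa [inf_relIndex_right])
  have hZp : IsPGroup q Z := (T.2.to_inf_left).comap_subtype
  have hcop : (Nat.card Z).Coprime Z.index := by
    obtain ⟨n, hn⟩ := IsPGroup.iff_card.1 hZp
    rw [hn]
    exact Nat.Coprime.pow_left n ((Fact.out : q.Prime).coprime_iff_not_dvd.2 hidx)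
  obtain ⟨L, hL⟩ := exists_right_complement'_of_coprime hcop
  haveI hLn : L.Normal := by
    refine normalizer_eq_top_iff.1 (eq_top_iff.2 ?_)
    rw [← hL.sup_eq_top]
    refine sup_le (fun z hz => mem_normalizer_iff.2 fun l => ?_) le_normalizer
    rw [← mem_center_iff.1 (hcen hz) l, mul_inv_cancel_right]
  have hLc : (Nat.card L).Coprime q := by
    rw [show Nat.card L = Z.index by
      have h1 := hL.card_mul
      rw [← Z.card_mul_index] at h1
      exact Nat.eq_of_mul_eq_mul_left Nat.card_pos h1]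
    exact ((Fact.out : q.Prime).coprime_iff_not_dvd.2 hidx).symm
  haveI : C.Normal := inferInstance
  have hbot : pPrimeCore q C = ⊥ := by
    have hle : (pPrimeCore q C).map C.subtype ≤ pPrimeCore q G :=
      haveI := PSolvable.map_subtype_pPrimeCore_normal (p := q) C
      PSolvable.le_pPrimeCore (by
        rw [card_map_of_injective C.subtype_injective]
        exact PSolvable.pPrimeCore_coprime)
    rw [hN] at hle
    exact (Subgroup.map_eq_bot_iff_of_injective _ C.subtype_injective).1 (le_bot_iff.1 hle)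
  have hL0 : L = ⊥ := le_bot_iff.1 (hbot ▸ PSolvable.le_pPrimeCore hLc)
  have htop : Z = ⊤ := by
    have h1 := hL.sup_eq_top
    rwa [hL0, sup_bot_eq] at h1
  intro c hc
  exact h (mem_subgroupOf.1 (htop.ge (mem_top (⟨c, hc⟩ : C))))

/-- The inductive step. -/
theorem rev_step (hq : q ≠ 2) (hIH : ∀ K : Subgroup G, K ≠ ⊤ → Descends q K)
    (hIHq : ∀ (N : Subgroup G) [N.Normal], N ≠ ⊥ → Descends q (G ⧸ N))
    (T : Sylow q G) (hR : Rev q (⊤ : Subgroup G)) :
    Rev q (normalizer (ZJ.zj 0 (T : Subgroup G) : Set G)) := by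
  set Q := pCore q G with hQdef
  by_cases hQ : Q = ⊥
  · exact rev_of_pCore_eq_bot hIH hQ T hR
  have hQT : Q ≤ (T : Subgroup G) := PSolvable.pCore_le_sylow T
  have hQp : IsPGroup q Q := PSolvable.pCore_isPGroup
  -- no inverted elements modulo `Q`
  by_cases hRQ : Rev q (⊤ : Subgroup (G ⧸ Q))
  · set f := QuotientGroup.mk' Q with hf
    let T' := T.mapSurjective (f := f) (QuotientGroup.mk'_surjective Q)
    have hZ := hIHq Q hQ T' hRQ
    set Z₁ := (ZJ.zj 0 (T' : Subgroup (G ⧸ Q))).comap f with hZ₁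
    have hNle : (normalizer (ZJ.zj 0 (T' : Subgroup (G ⧸ Q)) : Set (G ⧸ Q))).comap f ≤
        normalizer (Z₁ : Set G) := le_normalizer_comap f
    have hRN : Rev q (normalizer (Z₁ : Set G)) := by
      refine (rev_of_map hq f ?_).mono hNle
      rw [map_comap_eq_self_of_surjective (QuotientGroup.mk'_surjective Q)]
      exact hZ
    have hZ₁p : IsPGroup q Z₁ := (T'.2.to_le (ZJ.zj_le 0 _)).comap_of_ker_isPGroup f
      (by rw [QuotientGroup.ker_mk']; exact hQp)
    have hproper : normalizer (Z₁ : Set G) ≠ ⊤ := fun h => by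
      haveI := normalizer_eq_top_iff.1 h
      refine zj_ne_bot_sylow T' (sylow_ne_bot_of_rev hRQ T') (le_bot_iff.1 ?_)
      rw [← map_comap_eq_self_of_surjective (QuotientGroup.mk'_surjective Q)
        (ZJ.zj 0 (T' : Subgroup (G ⧸ Q)))]
      refine (Subgroup.map_mono (PSolvable.le_pCore hZ₁p)).trans ?_
      rw [QuotientGroup.map_mk'_self]
    refine rev_of_overgroup (hIH _ hproper) hRN T (le_trans (fun t ht => ?_) hNle)
    exact ZJ.normalizer_le 0 _ (le_normalizer (mem_map_of_mem f ht))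
  -- an inverted element in `Q`
  obtain ⟨x, -, hx1, ⟨k, hk⟩, g, -, hgx⟩ := hR
  obtain ⟨s, -, ⟨e, hse⟩, hsx⟩ := exists_two_element hgx
  have hxQ : x ∈ Q := by
    by_contra hxQ
    refine hRQ ⟨QuotientGroup.mk' Q x, mem_top _, fun h => hxQ ((QuotientGroup.eq_one_iff x).1 h),
      ⟨k, by rw [← map_pow, hk, map_one]⟩, QuotientGroup.mk' Q g, mem_top _, ?_⟩
    rw [← map_inv, ← map_inv, ← map_mul, ← map_mul, hgx]
  have hsC : s ∉ centralizer (Q : Set G) := fun h =>
    ne_inv_of_qElement hq hx1 hk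
      (((mul_inv_eq_iff_eq_mul.2 (mem_centralizer_iff.1 h x hxQ).symm)).symm.trans hsx)
  by_cases hN : pPrimeCore q G = ⊥
  swap
  · set N := pPrimeCore q G with hNdef
    set f := QuotientGroup.mk' N with hf
    let T' := T.mapSurjective (f := f) (QuotientGroup.mk'_surjective N)
    have hdisj : ∀ t ∈ (T : Subgroup G), t ∈ N → t = 1 := fun t ht htN =>
      mem_bot.1 ((PSolvable.inf_eq_bot_of_isPGroup_of_coprime T.2
        PSolvable.pPrimeCore_coprime) ▸ (show t ∈ (T : Subgroup G) ⊓ N from ⟨ht, htN⟩))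
    have hxN : f x ≠ 1 := fun h => hx1 (hdisj x (hQT hxQ) ((QuotientGroup.eq_one_iff x).1 h))
    have hZ := hIHq N hN T' ⟨f x, mem_top _, hxN, ⟨k, by rw [← map_pow, hk, map_one]⟩, f g,
      mem_top _, by rw [← map_inv, ← map_inv, ← map_mul, ← map_mul, hgx]⟩
    refine rev_of_map hq f ?_
    have hinj : Set.InjOn f (T : Subgroup G) := fun a ha b hb hab => by
      have := hdisj (a⁻¹ * b) (mul_mem (inv_mem ha) hb) (QuotientGroup.eq.1 hab)
      exact (inv_mul_eq_one.1 this)
    rw [show (T' : Subgroup (G ⧸ N)) = (T : Subgroup G).map f from rfl, ZJ.zj_map f hinj,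
      PSolvable.normalizer_map_mk' N PSolvable.pPrimeCore_coprime
        (T.2.to_le (ZJ.zj_le 0 _))] at hZ
    exact hZ
  set C := centralizer (Q : Set G) with hC
  haveI : C.Normal := inferInstance
  by_cases hT1 : (T : Subgroup G) ⊓ (C ⊔ Q) = Q
  · have hc := centralizer_pCore_le hN T
      ((inf_le_inf_left _ le_sup_left).trans hT1.le)
    by_cases hst : ZJ.StableOn q (T : Subgroup G)
    · rw [normalizer_eq_top_iff.mpr (ZJ.zj_normal hq (Or.inl rfl) hc T hst)]
      exact ⟨x, mem_top _, hx1, ⟨k, hk⟩, g, mem_top _, hgx⟩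
    · exact rev_of_not_stable hq hIH T hst
  -- Frattini argument for `C Q`
  set T₁ := (T : Subgroup G) ⊓ (C ⊔ Q) with hT₁
  have hQT₁ : Q ≤ T₁ := le_inf hQT le_sup_right
  have hTN : (T : Subgroup G) ≤ normalizer (T₁ : Set G) := by
    intro t ht
    refine PSolvable.mem_normalizer_of_conj_mem fun y hy => mem_inf.2 ⟨?_, ?_⟩
    · exact mul_mem (mul_mem ht hy.1) (inv_mem ht)
    · exact (inferInstance : (C ⊔ Q).Normal).conj_mem y hy.2 t
  have hproper : normalizer (T₁ : Set G) ≠ ⊤ := fun h => by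
    haveI := normalizer_eq_top_iff.1 h
    exact hT1 (le_antisymm (PSolvable.le_pCore T.2.to_inf_left) hQT₁)
  set f := QuotientGroup.mk' (C ⊔ Q) with hf
  have hidx : ¬ q ∣ T₁.relIndex (C ⊔ Q) := by
    rw [hT₁]
    exact FusionMod.not_dvd_relIndex_inf_normal T (C ⊔ Q)
  let S₁ : Sylow q ↥(C ⊔ Q) :=
    (T.2.to_inf_left.comap_subtype : IsPGroup q (T₁.subgroupOf (C ⊔ Q))).toSylow hidx
  obtain ⟨n, hn, c, hc', hnc⟩ : ∃ n ∈ normalizer (T₁ : Set G), ∃ c ∈ C ⊔ Q, n * c = s := by
    have htop := S₁.normalizer_sup_eq_top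
    rw [show (S₁ : Subgroup ↥(C ⊔ Q)) = T₁.subgroupOf (C ⊔ Q) from rfl,
      map_subgroupOf_eq_of_le inf_le_right] at htop
    exact mem_sup_of_normal_right.1 (htop ▸ mem_top _)
  have hsCQ : s ∉ C ⊔ Q := fun h => by
    obtain ⟨c₀, hc₀, y, hy, hcy⟩ := mem_sup_of_normal_right.1 h
    obtain ⟨j, hj⟩ := hQp ⟨y, hy⟩
    set f' := QuotientGroup.mk' C
    have h1 : f' s = f' y := by
      rw [← hcy, map_mul, show f' c₀ = 1 from (QuotientGroup.eq_one_iff c₀).2 hc₀, one_mul]
    have h2 : f' s ^ q ^ j = 1 := by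
      rw [h1, ← map_pow, show y ^ q ^ j = 1 from congrArg Subtype.val hj, map_one]
    have h3 : f' s ^ 2 ^ e = 1 := by rw [← map_pow, hse, map_one]
    have := pow_gcd_eq_one.2 ⟨h2, h3⟩
    rw [Nat.Coprime.pow j e ((Nat.coprime_primes Fact.out Nat.prime_two).2 hq), pow_one] at this
    exact hsC ((QuotientGroup.eq_one_iff s).1 this)
  obtain ⟨m, e', hm, hme⟩ := orderOf_two_part n
  have hnm : n ^ m ∉ C := fun h => hsCQ <| by
    have h1 : f s = f n := by
      rw [← hnc, map_mul, show f c = 1 from (QuotientGroup.eq_one_iff c).2 hc', mul_one]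
    have h2 : f s ^ m = 1 := by
      rw [h1, ← map_pow]; exact (QuotientGroup.eq_one_iff _).2 (mem_sup_left h)
    have h3 : f s ^ 2 ^ e = 1 := by rw [← map_pow, hse, map_one]
    have := pow_gcd_eq_one.2 ⟨h2, h3⟩
    rw [(Nat.coprime_two_right.2 hm).pow_right e, pow_one] at this
    exact (QuotientGroup.eq_one_iff s).1 this
  have hRN : Rev q (normalizer (T₁ : Set G)) :=
    rev_of_moved hQp (hQT₁.trans le_normalizer) e' (pow_mem hn m) hme
      (by rw [normalizer_eq_top_iff.mpr inferInstance]; exact mem_top _) hnm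
  exact rev_of_overgroup (hIH _ hproper) hRN T hTN

universe u

theorem descends_aux (hq : q ≠ 2) :
    ∀ (n : ℕ) (G : Type u) [Group G] [Finite G], Nat.card G = n → Descends q G := by
  intro n
  induction n using Nat.strong_induction_on with
  | _ n ih =>
    intro G _ _ hn T hR
    refine rev_step hq (fun K hK => ?_) (fun N _ hN => ?_) T hR
    · exact ih _ (hn ▸ lt_of_le_of_ne (card_le_card_group K)
        fun h => hK (eq_top_of_card_eq K h)) K rfl
    · refine ih _ (hn ▸ ?_) (G ⧸ N) rfl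
      rw [card_eq_card_quotient_mul_card_subgroup N]
      exact lt_mul_of_one_lt_right Nat.card_pos ((one_lt_card_iff_ne_bot N).2 hN)

/-- If some nontrivial `q`-element is inverted, then so is one in `N(Z(J(T)))`. -/
theorem rev_normalizer_centerThompson (hq : q ≠ 2) (T : Sylow q G) (hR : Rev q (⊤ : Subgroup G)) :
    Rev q (normalizer (Cfsg.centerThompsonAOf (T : Subgroup G) : Set G)) := by
  rw [← ZJ.zj_zero_eq]
  exact descends_aux hq _ G rfl T hR

/-- Without a normal Sylow 2-subgroup some element of odd prime order is inverted. -/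
theorem exists_rev_of_not_normal (h : ∃ P : Sylow 2 G, ¬ (P : Subgroup G).Normal) :
    ∃ (r : ℕ) (_ : Fact r.Prime), r ≠ 2 ∧ Rev r (⊤ : Subgroup G) := by
  classical
  obtain ⟨P, hP⟩ := h
  haveI : Fact (Nat.Prime 2) := ⟨Nat.prime_two⟩
  set O := pCore 2 G with hO
  set f := QuotientGroup.mk' O with hf
  have hne : (P : Subgroup G).map f ≠ ⊥ := fun h => hP <| by
    have : (P : Subgroup G) = O := le_antisymm
      (fun x hx => (QuotientGroup.eq_one_iff x).1 (mem_bot.1 (h ▸ mem_map_of_mem f hx)))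
      (PSolvable.pCore_le_sylow P)
    rw [this]; infer_instance
  obtain ⟨n, hn⟩ := IsPGroup.iff_card.1 (P.2.map f)
  have hn0 : n ≠ 0 := fun h0 => hne (Subgroup.card_eq_one.1 (by rw [hn, h0, pow_zero]))
  obtain ⟨t, htP, ht⟩ := Involution.exists_orderOf_eq_two ((P : Subgroup G).map f)
    (by rw [hn]; exact (Nat.even_pow' hn0).2 even_two)
  have htt := Involution.mul_self_eq_one ht
  obtain ⟨c, hc⟩ : ∃ c, ¬ IsPGroup 2 (closure ({t, c * t * c⁻¹} : Set (G ⧸ O))) := by
    by_contra hcon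
    push Not at hcon
    obtain ⟨N, hN, hNp, htN⟩ := Involution.baer_suzuki_element t hcon
    have hbot : pCore 2 (G ⧸ O) = ⊥ := PSolvable.pCore_quotient_eq_bot
    exact Involution.ne_one ht (mem_bot.1 (hbot ▸ PSolvable.le_pCore hNp htN))
  set u := c * t * c⁻¹ with hu
  have huu : u * u = 1 := by
    rw [hu, show c * t * c⁻¹ * (c * t * c⁻¹) = c * (t * t) * c⁻¹ by group, htt, mul_one,
      mul_inv_cancel]
  set x := t * u with hx
  obtain ⟨i, r', hr', hox⟩ := Nat.exists_eq_pow_mul_and_not_dvd (orderOf_pos x).ne' 2 (by norm_num)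
  have hr1 : r' ≠ 1 := fun h1 => hc (Involution.isPGroup_two_closure_pair htt huu i (by
    have := pow_orderOf_eq_one x
    rwa [hox, h1, mul_one] at this))
  obtain ⟨r, hr, hrd⟩ := Nat.exists_prime_and_dvd hr1
  have hr2 : r ≠ 2 := fun h => hr' (h ▸ hrd)
  have hrx : r ∣ orderOf x := hox ▸ dvd_mul_of_dvd_right hrd _
  haveI : Fact r.Prime := ⟨hr⟩
  refine ⟨r, inferInstance, hr2, rev_of_map hr2 f ?_⟩
  rw [Subgroup.map_top_of_surjective _ (QuotientGroup.mk'_surjective O)]
  refine ⟨x ^ (orderOf x / r), mem_top _, ?_, ⟨1, ?_⟩, t, mem_top _, ?_⟩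
  · intro h
    have h' := Nat.le_of_dvd (Nat.div_pos (Nat.le_of_dvd (orderOf_pos x) hrx) hr.pos)
      (orderOf_dvd_of_pow_eq_one h)
    exact absurd h' (not_le.2 (Nat.div_lt_self (orderOf_pos x) hr.one_lt))
  · rw [pow_one, ← pow_mul, Nat.div_mul_cancel hrx, pow_orderOf_eq_one]
  · rw [← zpow_natCast, hx, Involution.conj_zpow_pair htt huu]

end Cfsg.Agent.Lib.RealQ
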