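import Cfsg.Agent.Lib.ZJ.Involve
import Cfsg.Agent.Lib.SL2.Basic
import Cfsg.Agent.Lib.RealQ.Basic

/-!
# An unstable element is normalised modulo its Sylow group by a 2-element moving the `q`-group
-/

set_option autoImplicit false

namespace Cfsg.Agent.Lib.RealQ

open Subgroup Cfsg
open scoped MatrixGroups commutatorElement IsMulCommutative

variable {q : ℕ} [Fact q.Prime]

/-- A central involution in an image is lifted to a 2-element normalising a `q`-group around a
given `q`-element. -/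
theorem exists_normalizing_of_central {G S : Type*} [Group G] [Finite G] [Group S] (hq : q ≠ 2)
    {L : Subgroup G} (f : L →* S) (a z : L) {k : ℕ} (hak : a ^ q ^ k = 1)
    (hz : ∀ w : L, Commute (f z) (f w)) (hz2 : f z * f z = 1) (hz1 : f z ≠ 1) :
    ∃ R : Subgroup G, IsPGroup q R ∧ (a : G) ∈ R ∧ ∃ t : L, (t : G) ∈ normalizer (R : Set G) ∧
      (∃ e : ℕ, (t : G) ^ 2 ^ e = 1) ∧ f t ≠ 1 := by
  classical
  -- the group of elements commuting with the image of `a`
  set N : Subgroup L := (centralizer ({f a} : Set S)).comap f with hN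
  have haN : a ∈ N := mem_centralizer_singleton_iff.2 rfl
  have hzN : z ∈ N := mem_centralizer_singleton_iff.2 (hz a).eq
  set A : Subgroup N := (zpowers (f a)).comap (f.comp N.subtype) with hA
  haveI hAn : A.Normal := ⟨fun w hw n => by
    obtain ⟨i, hi⟩ := mem_zpowers_iff.1 (mem_comap.1 hw)
    refine mem_comap.2 (mem_zpowers_iff.2 ⟨i, ?_⟩)
    have hc : Commute (f n) (f a) := mem_centralizer_singleton_iff.1 n.2
    show f a ^ i = f ((n * w * n⁻¹ : N) : L)
    rw [show ((n * w * n⁻¹ : N) : L) = (n : L) * (w : L) * (n : L)⁻¹ from rfl, map_mul, map_mul,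
      map_inv, show f (w : L) = f a ^ i from hi.symm, (hc.zpow_right i).eq, mul_inv_cancel_right]⟩
  have haA : (⟨⟨a, haN⟩, mem_zpowers _⟩ : A) ^ q ^ k = 1 :=
    Subtype.ext (Subtype.ext (by simpa using hak))
  obtain ⟨Q, hQ⟩ := (Involves.isPGroup_zpowers (p := q) haA).exists_le_sylow
  have htop := Q.normalizer_sup_eq_top
  obtain ⟨n, hn, w, hw, hnw⟩ : ∃ n ∈ normalizer (((Q : Subgroup A).map A.subtype : Subgroup N) : Set N),
      ∃ w ∈ A, n * w = (⟨z, hzN⟩ : N) :=
    mem_sup_of_normal_right.1 (htop ▸ mem_top _)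
  set R : Subgroup N := (Q : Subgroup A).map A.subtype with hR
  -- image of `n`
  obtain ⟨i, hi⟩ := mem_zpowers_iff.1 (mem_comap.1 hw)
  have hfn : f (n : L) = f z * (f a) ^ (-i) := by
    have h := congrArg (fun u : N => f (u : L)) hnw
    simp only [Subgroup.coe_mul, map_mul] at h
    rw [← h, show f (w : L) = f a ^ i from hi.symm, zpow_neg, mul_inv_cancel_right]
  obtain ⟨m, e, hm, hme⟩ := orderOf_two_part n
  set R' : Subgroup G := (R.map N.subtype).map L.subtype with hR'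
  refine ⟨R', ((Q.2.map _).map _).map _, ⟨a, ⟨⟨a, haN⟩, ⟨⟨⟨a, haN⟩, mem_zpowers _⟩,
    hQ (mem_zpowers _), rfl⟩, rfl⟩, rfl⟩, (n ^ m : N), ?_, ⟨e, ?_⟩, ?_⟩
  · have h1 : ((n ^ m : N) : L) ∈ normalizer ((R.map N.subtype : Subgroup L) : Set L) :=
      le_normalizer_map N.subtype ⟨_, pow_mem hn m, rfl⟩
    exact le_normalizer_map L.subtype ⟨_, h1, rfl⟩
  · exact congrArg (fun u : N => ((u : L) : G)) hme
  · rw [Subgroup.coe_pow, map_pow, hfn, ((hz a).zpow_right (-i)).mul_pow]
    intro h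
    obtain ⟨r, rfl⟩ := hm
    have hzodd : f z ^ (2 * r + 1) = f z := by
      rw [pow_succ, pow_mul, pow_two, hz2, one_pow, one_mul]
    rw [hzodd] at h
    have h2 := eq_inv_of_mul_eq_one_left h
    have hak' : f a ^ q ^ k = 1 := by rw [← map_pow, hak, map_one]
    have h3 : f z ^ q ^ k = 1 := by
      rw [h2, inv_pow, ← zpow_natCast (f a ^ (-i)), ← _root_.zpow_mul, ← zpow_natCast,
        ← _root_.zpow_mul, mul_comm, _root_.zpow_mul, zpow_natCast, hak', _root_.one_zpow, inv_one]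
    have hodd : Odd (q ^ k) := ((Fact.out : q.Prime).odd_of_ne_two hq).pow
    obtain ⟨l, hl⟩ := hodd
    rw [hl, pow_succ, pow_mul, pow_two, hz2, one_pow, one_mul] at h3
    exact hz1 h3

/-- A quadratic element outside `O_q` of the automiser has, in some `q`-group around it, a 2-element
of the normalizer moving the normal `q`-group. -/
theorem exists_normalizing_of_unstable {G : Type*} [Group G] [Finite G] (hq : q ≠ 2)
    (P : Subgroup G) [P.Normal] (hP : IsPGroup q P) {a : G} {k : ℕ} (hak : a ^ q ^ k = 1)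
    (hquad : ∀ x ∈ P, a * ⁅x, a⁆ = ⁅x, a⁆ * a)
    (hna : (a : G ⧸ centralizer (P : Set G)) ∉ pCore q (G ⧸ centralizer (P : Set G))) :
    ∃ R : Subgroup G, IsPGroup q R ∧ a ∈ R ∧ ∃ t ∈ normalizer (R : Set G),
      (∃ e : ℕ, t ^ 2 ^ e = 1) ∧ t ∉ centralizer (P : Set G) := by
  obtain ⟨W, hWn, V, hVn, -, hVP, hV, -, -, hO, haV, hqV⟩ := ZJ.exists_chiefFactor P hP hquad hna
  have : IsMulCommutative V := hV.1
  have hM : ∀ v : Additive V, q • v = 0 := fun v => by
    apply Additive.toMul.injective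
    apply Subtype.ext
    rw [toMul_nsmul, SubgroupClass.coe_pow, toMul_zero, OneMemClass.coe_one]
    exact hV.2 _ (Additive.toMul v : V).2
  obtain ⟨ρ, hinj, -, hu⟩ := ZJ.exists_faithful_action V (QuotientGroup.mk' W a) hqV
  set π : G →* (G ⧸ W) ⧸ centralizer (V : Set (G ⧸ W)) :=
    (QuotientGroup.mk' _).comp (QuotientGroup.mk' W) with hπ
  have hnapi : π a ∉ pCore q _ := fun h' =>
    haV ((QuotientGroup.eq_one_iff _).1 (by rwa [hO, mem_bot] at h'))
  have hCP : centralizer (P : Set G) ≤ π.ker := fun c hc =>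
    (QuotientGroup.eq_one_iff _).2 (mem_centralizer_iff.2 fun v hv => by
      obtain ⟨x, hx, rfl⟩ := hVP hv
      rw [← map_mul, ← map_mul, mem_centralizer_iff.1 hc x hx])
  obtain ⟨g, hg⟩ := QuadraticStable.exists_conj_not_isPGroup hnapi
  set L₀ := closure ({π a, g * π a * g⁻¹} : Set ((G ⧸ W) ⧸ centralizer (V : Set (G ⧸ W)))) with hL₀
  set a' : L₀ := ⟨π a, subset_closure (Set.mem_insert _ _)⟩ with ha'
  set b' : L₀ := ⟨g * π a * g⁻¹, subset_closure (Set.mem_insert_of_mem _ rfl)⟩ with hb'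
  have hgen : closure ({a', b'} : Set L₀) = ⊤ := by
    apply map_injective (subtype_injective L₀)
    rw [MonoidHom.map_closure, ← MonoidHom.range_eq_map, range_subtype, Set.image_pair]
    exact hL₀.symm
  have hex : ∃ x : L₀, ∀ i, x ^ q ^ i ≠ 1 := by
    by_contra hcon
    simp only [not_exists, not_forall, not_not] at hcon
    exact hg hcon
  obtain ⟨x, hx⟩ := hex
  obtain ⟨K, iK, iKf, iKc, φ, hφ, hφa, hφb⟩ := QuadraticPair.exists_sl2_rep_aux hM
    (ρ.comp L₀.subtype) (fun h hh => Subtype.ext (hinj h hh)) hgen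
    (show TwoQuadratic.IsUnipotentTwo (ρ.comp L₀.subtype a') from hu)
    (show TwoQuadratic.IsUnipotentTwo (ρ.comp L₀.subtype b') from
      QuadraticStable.isUnipotentTwo_conj ρ hu g) hx
  have hnp : ¬ IsPGroup q φ.range := fun h => by
    obtain ⟨i, hi⟩ := h ⟨φ x, x, rfl⟩
    exact hφ i (by rw [map_pow]; exact congrArg Subtype.val hi)
  obtain ⟨ψ, hψ, hle⟩ := ZJ.exists_embedding_of_not_isPGroup hq hφa hφb
    (show φ.range = closure {φ a', φ b'} by
      rw [MonoidHom.range_eq_map, ← hgen, MonoidHom.map_closure, Set.image_pair]) hnp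
  -- the image of `-1`
  have h2K : (2 : K) ≠ 0 := SL2Unipotent.two_ne_zero' hq
  obtain ⟨z₀, hz₀⟩ := hle ⟨-1, rfl⟩
  have hψ1 : ψ (-1) ≠ 1 := fun h => by
    have h' := congrArg (fun m : SL(2, ZMod q) => m.1 0 0) (hψ (h.trans (map_one ψ).symm))
    simp at h'
    have h2 : (2 : ZMod q) = 0 := by linear_combination -h'
    exact SL2Unipotent.two_ne_zero' hq h2
  have hψsq : ψ (-1) * ψ (-1) = 1 := by rw [← map_mul, neg_mul_neg, one_mul, map_one]
  have hneg : ψ (-1) = -1 := SL2.eq_neg_one_of_mul_self_eq_one h2K hψsq hψ1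
  obtain ⟨z, hzπ⟩ : ∃ z, π z = (z₀ : (G ⧸ W) ⧸ centralizer (V : Set (G ⧸ W))) :=
    (QuotientGroup.mk'_surjective _).comp (QuotientGroup.mk'_surjective W) _
  have hzL : z ∈ L₀.comap π := show π z ∈ L₀ by rw [show π z = z₀ from hzπ]; exact z₀.2
  let f : (L₀.comap π : Subgroup G) →* SL(2, K) := φ.comp (π.subgroupComap L₀)
  have hfz : f ⟨z, hzL⟩ = -1 := by
    rw [← hneg, ← hz₀]
    exact congrArg φ (Subtype.ext hzπ)
  obtain ⟨R, hR, haR, t, ht, hte, hft⟩ := exists_normalizing_of_central hq f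
    ⟨a, show π a ∈ L₀ from a'.2⟩ ⟨z, hzL⟩ (k := k) (Subtype.ext hak)
    (fun w => by rw [hfz]; exact Commute.neg_one_left _)
    (by rw [hfz, neg_mul_neg, one_mul]) (by rw [hfz, ← hneg]; exact hψ1)
  refine ⟨R, hR, haR, t, ht, hte, fun hc => hft ?_⟩
  show φ (π.subgroupComap L₀ t) = 1
  rw [show π.subgroupComap L₀ t = 1 from Subtype.ext (MonoidHom.mem_ker.1 (hCP hc)), map_one]

end Cfsg.Agent.Lib.RealQ
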