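import Cfsg.Agent.Lib.RealQ.Pair
import Cfsg.Agent.Lib.ZJ.Main

/-!
# The unstable constrained case
-/

set_option autoImplicit false

namespace Cfsg.Agent.Lib.RealQ

open Subgroup Cfsg
open scoped commutatorElement

variable {G : Type*} [Group G] {q : ℕ}

/-- A `q`-element acting quadratically on `P`. -/
def Quad (q : ℕ) (P : Subgroup G) (y : G) : Prop :=
  (∃ k : ℕ, y ^ q ^ k = 1) ∧ ⁅⁅P, zpowers y⁆, zpowers y⁆ = ⊥

/-- `Q` joined with the quadratic elements of `R`. -/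
def qc (q : ℕ) (Q P R : Subgroup G) : Subgroup G := Q ⊔ closure {y | y ∈ R ∧ Quad q P y}

theorem Quad.conj {P : Subgroup G} [hP : P.Normal] {y : G} (h : Quad q P y) (g : G) :
    Quad q P (g * y * g⁻¹) := by
  obtain ⟨⟨k, hk⟩, hq⟩ := h
  refine ⟨⟨k, by rw [conj_pow, hk, mul_one, mul_inv_cancel]⟩, ?_⟩
  have := congrArg (Subgroup.map (MulAut.conj g).toMonoidHom) hq
  have hPg : P.map (MulAut.conj g).toMonoidHom = P :=
    mem_normalizer_iff_map_conj_eq.1 (show g ∈ normalizer (P : Set G) by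
      rw [normalizer_eq_top_iff.mpr hP]; exact mem_top g)
  rw [map_commutator, map_commutator, MonoidHom.map_zpowers, hPg, Subgroup.map_bot] at this
  exact this

variable {Q P : Subgroup G}

theorem qc_le {R : Subgroup G} (hQ : Q ≤ R) : qc q Q P R ≤ R :=
  sup_le hQ ((Subgroup.closure_le R).2 fun _ hy => hy.1)

theorem le_qc (R : Subgroup G) : Q ≤ qc q Q P R := le_sup_left

theorem qc_mono {R S : Subgroup G} (h : R ≤ S) : qc q Q P R ≤ qc q Q P S := by
  have hsub : {y | y ∈ R ∧ Quad q P y} ⊆ {y | y ∈ S ∧ Quad q P y} := fun y hy => ⟨h hy.1, hy.2⟩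
  exact sup_le_sup_left (Subgroup.closure_mono hsub) Q

theorem mem_qc {R : Subgroup G} {y : G} (hy : y ∈ R) (h : Quad q P y) : y ∈ qc q Q P R :=
  mem_sup_right (subset_closure ⟨hy, h⟩)

theorem qc_idem (R : Subgroup G) : qc q Q P (qc q Q P R) = qc q Q P R :=
  le_antisymm (qc_le (le_qc R))
    (sup_le (le_qc _) ((closure_le _).2 fun _ hy => mem_qc (mem_qc hy.1 hy.2) hy.2))

theorem normalizer_le_qc [Q.Normal] [P.Normal] [Finite G] (R : Subgroup G) :
    normalizer (R : Set G) ≤ normalizer (qc q Q P R : Set G) := by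
  intro g hg
  refine mem_normalizer_iff_map_conj_eq.2 (eq_of_le_of_card_ge ?_
    (card_map_of_injective (MulAut.conj g).injective).ge)
  rw [qc, Subgroup.map_sup, MonoidHom.map_closure]
  refine sup_le_sup ?_ (closure_mono ?_)
  · rintro _ ⟨x, hx, rfl⟩
    exact (inferInstance : Q.Normal).conj_mem x hx g
  · rintro _ ⟨y, ⟨hyR, hyq⟩, rfl⟩
    exact ⟨(mem_normalizer_iff.1 hg y).1 hyR, hyq.conj g⟩

variable [Finite G] [Fact q.Prime]

theorem mk_mem_pCore_of_mem {K : Type*} [Group K] (f : G →* K) (hf : Function.Surjective f)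
    {W : Subgroup G} [hW : W.Normal] (hWp : IsPGroup q W) {x : G} (hx : x ∈ W) :
    f x ∈ pCore q K :=
  haveI := hW.map f hf
  PSolvable.le_pCore (hWp.map f) (mem_map_of_mem f hx)

theorem isSylow_of_normalizer_le {T H : Subgroup G} (hT : IsPGroup q T) (hTH : T ≤ H)
    (hmax : ∀ R : Subgroup G, IsPGroup q R → T ≤ R → R ≤ H → R = T)
    (hN : normalizer (T : Set G) ≤ H) : ∃ S : Sylow q G, (S : Subgroup G) = T := by
  obtain ⟨S, hS⟩ := hT.exists_le_sylow
  refine ⟨S, le_antisymm ?_ hS⟩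
  by_contra hne
  haveI : Group.IsNilpotent (S : Subgroup G) := S.2.isNilpotent
  have hlt : T.subgroupOf (S : Subgroup G) < ⊤ :=
    lt_top_iff_ne_top.2 fun h => hne (subgroupOf_eq_top.1 h)
  have hgrow := Group.normalizerCondition_of_isNilpotent (T.subgroupOf (S : Subgroup G)) hlt
  obtain ⟨x, hx, hxT⟩ := SetLike.exists_of_lt hgrow
  have hxN : (x : G) ∈ normalizer (T : Set G) := by
    have h := le_normalizer_map (S : Subgroup G).subtype ⟨x, hx, rfl⟩
    rwa [map_subgroupOf_eq_of_le hS] at h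
  have h := hmax ((S : Subgroup G) ⊓ normalizer (T : Set G)) S.2.to_inf_left
    (le_inf hS le_normalizer) (inf_le_right.trans hN)
  exact hxT (mem_subgroupOf.2 (h.le ⟨x.2, hxN⟩))

theorem rev_of_not_stable (hq : q ≠ 2) (hIH : ∀ K : Subgroup G, K ≠ ⊤ → Descends q K)
    (T : Sylow q G) (hns : ¬ ZJ.StableOn q (T : Subgroup G)) :
    Rev q (normalizer (ZJ.zj 0 (T : Subgroup G) : Set G)) := by
  classical
  simp only [ZJ.StableOn] at hns
  push Not at hns
  obtain ⟨P, hPn, hP, A, hAT, hquad, hnle⟩ := hns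
  obtain ⟨_, ⟨a, haA, rfl⟩, hna⟩ := SetLike.not_le_iff_exists.1 hnle
  set Q := pCore q G with hQdef
  have hPQ : P ≤ Q := PSolvable.le_pCore hP
  have haQ : a ∉ Q := fun h => hna (mk_mem_pCore_of_mem _ (QuotientGroup.mk'_surjective _)
    PSolvable.pCore_isPGroup h)
  obtain ⟨k, hk⟩ := T.2 ⟨a, hAT haA⟩
  have hak : a ^ q ^ k = 1 := congrArg Subtype.val hk
  have haq : Quad q P a := ⟨⟨k, hak⟩, le_bot_iff.1 (hquad ▸ commutator_mono
    (commutator_mono le_rfl (zpowers_le.2 haA)) (zpowers_le.2 haA))⟩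
  let 𝒲 : Set (Subgroup G) := {W | IsPGroup q W ∧ qc q Q P W = W ∧ ¬ W ≤ Q ∧
    ∃ t ∈ normalizer (W : Set G), (∃ e : ℕ, t ^ 2 ^ e = 1) ∧ t ∉ centralizer (P : Set G)}
  have hmemW : ∀ {R : Subgroup G}, IsPGroup q R → Q ≤ R → ∀ {y : G}, y ∈ qc q Q P R → y ∉ Q →
      ∀ {t : G}, t ∈ normalizer (R : Set G) → (∃ e : ℕ, t ^ 2 ^ e = 1) →
      t ∉ centralizer (P : Set G) → qc q Q P R ∈ 𝒲 := fun {R} hR hQR {y} hy hyQ {t} ht hte htc =>
    ⟨hR.to_le (qc_le hQR), qc_idem R, fun h => hyQ (h hy), t, normalizer_le_qc R ht, hte, htc⟩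
  have hne : 𝒲.Nonempty := by
    obtain ⟨R, hR, haR, t, ht, hte, htc⟩ := exists_normalizing_of_unstable hq P hP hak
      (fun x hx => Quadratic.commute_of_commutator_commutator_eq_bot hquad hx haA haA) hna
    refine ⟨_, hmemW (hR.to_sup_of_normal_right' PSolvable.pCore_isPGroup
      (show R ≤ normalizer (Q : Set G) by rw [normalizer_eq_top_iff.mpr inferInstance]; exact le_top))
      le_sup_right (mem_qc (mem_sup_left haR) haq) haQ ?_ hte htc⟩
    refine normalizer_inf_normalizer_le_normalizer_sup _ _ ⟨ht, ?_⟩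
    rw [normalizer_eq_top_iff.mpr inferInstance]
    exact mem_top t
  obtain ⟨W, hW⟩ := (Set.toFinite 𝒲).exists_maximal hne
  obtain ⟨⟨hWp, hWfix, hWQ, t, htH, hte, htc⟩, hmax⟩ := hW
  set H : Subgroup G := normalizer (W : Set G) with hH
  have hQW : Q ≤ W := hWfix ▸ le_qc W
  have hWH : W ≤ H := le_normalizer
  have hPH : P ≤ H := (hPQ.trans hQW).trans hWH
  have hHtop : H ≠ ⊤ := fun h => hWQ
    (haveI := normalizer_eq_top_iff.1 h; PSolvable.le_pCore hWp)
  -- inside `H`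
  haveI hP'n : (P.subgroupOf H).Normal := Subgroup.Normal.subgroupOf hPn H
  haveI hW'n : (W.subgroupOf H).Normal := normal_in_normalizer
  set C : Subgroup H := centralizer (P.subgroupOf H : Set H) with hC
  have hCG : ∀ x : H, x ∈ C ↔ (x : G) ∈ centralizer (P : Set G) := by
    intro x
    simp only [hC, mem_centralizer_iff, SetLike.mem_coe, mem_subgroupOf]
    exact ⟨fun h v hv => congrArg Subtype.val (h ⟨v, hPH hv⟩ hv),
      fun h v hv => Subtype.ext (h v hv)⟩
  set O : Subgroup H := (pCore q (H ⧸ C)).comap (QuotientGroup.mk' C) with hO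
  haveI hOn : O.Normal := Subgroup.Normal.comap inferInstance _
  have hW'p : IsPGroup q (W.subgroupOf H) := hWp.comap_subtype
  have hWO : W.subgroupOf H ≤ O := fun x hx =>
    mk_mem_pCore_of_mem _ (QuotientGroup.mk'_surjective C) hW'p hx
  have hCO : C ≤ O := fun x hx => by
    show QuotientGroup.mk' C x ∈ pCore q (H ⧸ C)
    rw [QuotientGroup.mk'_apply, (QuotientGroup.eq_one_iff x).2 hx]
    exact one_mem _
  have key : ∀ y : H, Quad q P (y : G) → y ∈ O := by
    intro y hy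
    by_contra hyO
    obtain ⟨k', hk'⟩ := hy.1
    obtain ⟨R, hR, hyR, s, hs, hse, hsc⟩ := exists_normalizing_of_unstable hq (P.subgroupOf H)
      (hP.comap_subtype) (a := y) (k := k') (Subtype.ext hk') (fun x hx => Subtype.ext
        (Quadratic.commute_of_commutator_commutator_eq_bot hy.2 hx (mem_zpowers (y : G))
          (mem_zpowers (y : G)))) hyO
    set R' := R.map H.subtype with hR'
    have hR'H : R' ≤ normalizer (W : Set G) := map_subtype_le R
    have hsup : IsPGroup q (R' ⊔ W : Subgroup G) :=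
      (hR.map H.subtype).to_sup_of_normal_right' hWp hR'H
    have hmem : qc q Q P (R' ⊔ W) ∈ 𝒲 := by
      obtain ⟨e, he⟩ := hse
      refine ⟨hsup.to_le (qc_le (hQW.trans le_sup_right)), qc_idem _, fun h => hWQ
        ((hWfix.ge.trans (qc_mono le_sup_right)).trans h), (s : G), normalizer_le_qc _
        (normalizer_inf_normalizer_le_normalizer_sup _ _ ⟨le_normalizer_map H.subtype ⟨s, hs, rfl⟩, s.2⟩),
        ⟨e, by rw [← Subgroup.coe_pow, he, Subgroup.coe_one]⟩, fun h => hsc ((hCG s).2 h)⟩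
    have hle : qc q Q P (R' ⊔ W) ≤ W := hmax hmem (hWfix.ge.trans (qc_mono le_sup_right))
    exact hyO (hWO (hle (mem_qc (mem_sup_left ⟨y, hyR, rfl⟩) hy)))
  -- a Sylow subgroup of the stable part
  obtain ⟨S₀⟩ : Nonempty (Sylow q O) := inferInstance
  set U : Subgroup H := (S₀ : Subgroup O).map O.subtype with hU
  have hUp : IsPGroup q U := S₀.2.map _
  obtain ⟨T₀, hUT⟩ := hUp.exists_le_sylow
  have hTO : ∀ x ∈ (T₀ : Subgroup H), x ∈ O → x ∈ U := by
    intro x hx hxO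
    have h := S₀.is_maximal' (Q := (T₀ : Subgroup H).subgroupOf O) T₀.2.comap_subtype
      fun z hz => hUT ⟨z, hz, rfl⟩
    exact ⟨⟨x, hxO⟩, h.le hx, rfl⟩
  set T' : Subgroup G := (T₀ : Subgroup H).map H.subtype with hT'
  have hWT : W ≤ T' := fun x hx =>
    ⟨⟨x, hWH hx⟩, hW'p.le_sylow_of_normal T₀ hx, rfl⟩
  have hUW : U.map H.subtype ≤ T' := map_mono hUT
  have hWU : W ≤ U.map H.subtype := fun x hx =>
    ⟨⟨x, hWH hx⟩, hTO _ (hW'p.le_sylow_of_normal T₀ hx) (hWO hx), rfl⟩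
  -- a 2-element normalising `U`
  have htop := S₀.normalizer_sup_eq_top
  obtain ⟨n, hn, o, ho, hno⟩ : ∃ n ∈ normalizer (U : Set H), ∃ o ∈ O, n * o = (⟨t, htH⟩ : H) :=
    mem_sup_of_normal_right.1 (htop ▸ mem_top _)
  obtain ⟨m, e', hm, hme⟩ := orderOf_two_part n
  have htO : (⟨t, htH⟩ : H) ∉ O := by
    intro h
    obtain ⟨j, hj⟩ := PSolvable.pCore_isPGroup (p := q) ⟨_, mem_comap.1 h⟩
    have hj' : QuotientGroup.mk' C (⟨t, htH⟩ : H) ^ q ^ j = 1 := congrArg Subtype.val hj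
    obtain ⟨e, he⟩ := hte
    have he' : QuotientGroup.mk' C (⟨t, htH⟩ : H) ^ 2 ^ e = 1 := by
      rw [← map_pow, show (⟨t, htH⟩ : H) ^ 2 ^ e = 1 from Subtype.ext he, map_one]
    have := pow_gcd_eq_one.2 ⟨hj', he'⟩
    rw [Nat.Coprime.pow j e ((Nat.coprime_primes Fact.out Nat.prime_two).2 hq), pow_one] at this
    exact htc ((hCG _).1 ((QuotientGroup.eq_one_iff _).1 this))
  have hnO : n ^ m ∉ O := by
    intro h
    apply htO
    let f := QuotientGroup.mk' O
    have h1 : f (⟨t, htH⟩ : H) = f n := by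
      rw [← hno, map_mul, show f o = 1 from (QuotientGroup.eq_one_iff o).2 ho, mul_one]
    have h2 : f (⟨t, htH⟩ : H) ^ m = 1 := by
      rw [h1, ← map_pow]; exact (QuotientGroup.eq_one_iff _).2 h
    obtain ⟨e, he⟩ := hte
    have h3 : f (⟨t, htH⟩ : H) ^ 2 ^ e = 1 := by
      rw [← map_pow, show (⟨t, htH⟩ : H) ^ 2 ^ e = 1 from Subtype.ext he, map_one]
    have := pow_gcd_eq_one.2 ⟨h2, h3⟩
    rw [(Nat.coprime_two_right.2 hm).pow_right e, pow_one] at this
    exact (QuotientGroup.eq_one_iff _).1 this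
  have hQU : Q ≤ U.map H.subtype := hQW.trans hWU
  have hmem : qc q Q P (U.map H.subtype) ∈ 𝒲 :=
    ⟨((hUp.map H.subtype).to_le (qc_le hQU)), qc_idem _,
      fun h => hWQ ((hWfix.ge.trans (qc_mono hWU)).trans h), ((n ^ m : H) : G),
      normalizer_le_qc _ (le_normalizer_map H.subtype ⟨_, pow_mem hn m, rfl⟩),
      ⟨e', congrArg Subtype.val hme⟩, fun h => hnO (hCO ((hCG _).2 h))⟩
  have hle : qc q Q P (U.map H.subtype) ≤ W := hmax hmem (hWfix.ge.trans (qc_mono hWU))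
  have heq : qc q Q P T' = W := by
    refine le_antisymm (sup_le hQW ((closure_le _).2 ?_)) (hWfix.ge.trans (qc_mono hWT))
    rintro y ⟨⟨y', hy', rfl⟩, hyq⟩
    exact hle (mem_qc ⟨y', hTO y' hy' (key y' hyq), rfl⟩ hyq)
  have hNT : normalizer (T' : Set G) ≤ H := by
    rw [hH, ← heq]; exact normalizer_le_qc T'
  obtain ⟨S, hS⟩ := isSylow_of_normalizer_le (T₀.2.map H.subtype) (map_subtype_le _)
    (fun R hR hTR hRH => le_antisymm (fun r hr => ⟨⟨r, hRH hr⟩,
      (T₀.is_maximal' (Q := R.subgroupOf H) hR.comap_subtype fun z hz => hTR ⟨z, hz, rfl⟩).le hr,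
      rfl⟩) hTR) hNT
  obtain ⟨e, he⟩ := hte
  have hRev : Rev q H := rev_of_moved hP hPH e htH he
    (by rw [normalizer_eq_top_iff.mpr hPn]; exact mem_top t) htc
  exact rev_zj_conj S T (rev_of_overgroup (hIH H hHtop) hRev S
    (hS ▸ (map_subtype_le _ : T' ≤ H)))

end Cfsg.Agent.Lib.RealQ
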